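import Groth.Agent.Lib.H1Sh4.Ring
import Groth.Agent.Lib.FlatH4.PullChart
import Groth.Agent.Lib.Pinch4.BaseChange
import Groth.Prelude.Def_SheafNL

/-!
# Affine chart pairs and the restriction maps of their `H₁`
-/

set_option autoImplicit false
set_option linter.style.haveILetI false
set_option backward.isDefEq.respectTransparency.types false
universe u

open CategoryTheory CategoryTheory.Limits AlgebraicGeometry TopologicalSpace Opposite TensorProduct

namespace Groth.Agent.H1Sh4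

variable {X Y : Scheme.{u}}

/-- An affine chart pair of a morphism. -/
@[ext]
structure Chart (f : X ⟶ Y) where
  U : X.affineOpens
  V : Y.affineOpens
  le : (U : X.Opens) ≤ f ⁻¹ᵁ (V : Y.Opens)

variable {f : X ⟶ Y}

instance : Preorder (Chart f) where
  le d c := (d.U : X.Opens) ≤ c.U ∧ (d.V : Y.Opens) ≤ c.V
  le_refl _ := ⟨le_rfl, le_rfl⟩
  le_trans _ _ _ h h' := ⟨h.1.trans h'.1, h.2.trans h'.2⟩

/-- The module of a chart pair. -/
abbrev H (c : Chart f) : Type u := NLCx.ChartH1 f c.U c.V c.le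

/-- Restriction. -/
noncomputable def res {c d : Chart f} (h : d ≤ c) : H c →+ H d := NLCx.chartRes c.le d.le h.1 h.2

/-- Restriction of functions. -/
noncomputable abbrev fres {U V : X.Opens} (h : V ≤ U) : Γ(X, U) ⟶ Γ(X, V) := X.presheaf.map (homOfLE h).op

theorem fres_fres {U V W : X.Opens} (h : V ≤ U) (h' : W ≤ V) (a : Γ(X, U)) :
    fres h' (fres h a) = fres (h'.trans h) a :=
  (ConcreteCategory.congr_hom (X.presheaf.map_comp (homOfLE h).op (homOfLE h').op) a).symm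

theorem fres_self {U : X.Opens} (h : U ≤ U) (a : Γ(X, U)) : fres h a = a :=
  ConcreteCategory.congr_hom (X.presheaf.map_id (op U)) a

theorem res_res {c d e : Chart f} (h : d ≤ c) (h' : e ≤ d) (x : H c) :
    res h' (res h x) = res (h'.trans h) x := by
  letI := (f.appLE (c.V : Y.Opens) (c.U : X.Opens) c.le).hom.toAlgebra
  letI := (f.appLE (d.V : Y.Opens) (d.U : X.Opens) d.le).hom.toAlgebra
  letI := (f.appLE (e.V : Y.Opens) (e.U : X.Opens) e.le).hom.toAlgebra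
  letI := (f.appLE (c.V : Y.Opens) (d.U : X.Opens) (h.1.trans c.le)).hom.toAlgebra
  letI := (f.appLE (c.V : Y.Opens) (e.U : X.Opens) ((h'.trans h).1.trans c.le)).hom.toAlgebra
  letI := (f.appLE (d.V : Y.Opens) (e.U : X.Opens) (h'.1.trans d.le)).hom.toAlgebra
  letI := (X.presheaf.map (homOfLE h.1).op).hom.toAlgebra
  letI := (X.presheaf.map (homOfLE h'.1).op).hom.toAlgebra
  letI := (X.presheaf.map (homOfLE (h'.trans h).1).op).hom.toAlgebra
  letI := (Y.presheaf.map (homOfLE h.2).op).hom.toAlgebra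
  letI := (Y.presheaf.map (homOfLE h'.2).op).hom.toAlgebra
  letI := (Y.presheaf.map (homOfLE (h'.trans h).2).op).hom.toAlgebra
  haveI : IsScalarTower Γ(Y, (c.V : Y.Opens)) Γ(Y, (d.V : Y.Opens)) Γ(Y, (e.V : Y.Opens)) :=
    IsScalarTower.of_algebraMap_eq fun r => ConcreteCategory.congr_hom
      (Y.presheaf.map_comp (homOfLE h.2).op (homOfLE h'.2).op) r
  haveI : IsScalarTower Γ(X, (c.U : X.Opens)) Γ(X, (d.U : X.Opens)) Γ(X, (e.U : X.Opens)) :=
    IsScalarTower.of_algebraMap_eq fun r => ConcreteCategory.congr_hom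
      (X.presheaf.map_comp (homOfLE h.1).op (homOfLE h'.1).op) r
  have t1 : ∀ {V₁ V₂ : Y.Opens} {U₁ : X.Opens} (a : V₂ ≤ V₁) (b : U₁ ≤ f ⁻¹ᵁ V₂) (b' : U₁ ≤ f ⁻¹ᵁ V₁) (r : Γ(Y, V₁)),
      f.appLE V₁ U₁ b' r = f.appLE V₂ U₁ b (Y.presheaf.map (homOfLE a).op r) :=
    fun a b b' r => (ConcreteCategory.congr_hom (Scheme.Hom.map_appLE f b (homOfLE a).op) r).symm
  have t2 : ∀ {V₁ : Y.Opens} {U₁ U₂ : X.Opens} (a : U₂ ≤ U₁) (b : U₁ ≤ f ⁻¹ᵁ V₁) (b' : U₂ ≤ f ⁻¹ᵁ V₁) (r : Γ(Y, V₁)),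
      f.appLE V₁ U₂ b' r = X.presheaf.map (homOfLE a).op (f.appLE V₁ U₁ b r) :=
    fun a b b' r => (ConcreteCategory.congr_hom (Scheme.Hom.appLE_map f b (homOfLE a).op) r).symm
  haveI : IsScalarTower Γ(Y, (c.V : Y.Opens)) Γ(Y, (d.V : Y.Opens)) Γ(X, (d.U : X.Opens)) :=
    IsScalarTower.of_algebraMap_eq (t1 h.2 _ _)
  haveI : IsScalarTower Γ(Y, (c.V : Y.Opens)) Γ(X, (c.U : X.Opens)) Γ(X, (d.U : X.Opens)) :=
    IsScalarTower.of_algebraMap_eq (t2 h.1 _ _)
  haveI : IsScalarTower Γ(Y, (c.V : Y.Opens)) Γ(Y, (d.V : Y.Opens)) Γ(X, (e.U : X.Opens)) :=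
    IsScalarTower.of_algebraMap_eq (t1 h.2 _ _)
  haveI : IsScalarTower Γ(Y, (c.V : Y.Opens)) Γ(X, (c.U : X.Opens)) Γ(X, (e.U : X.Opens)) :=
    IsScalarTower.of_algebraMap_eq (t2 (h'.trans h).1 _ _)
  haveI : IsScalarTower Γ(Y, (c.V : Y.Opens)) Γ(Y, (e.V : Y.Opens)) Γ(X, (e.U : X.Opens)) :=
    IsScalarTower.of_algebraMap_eq (t1 (h'.trans h).2 _ _)
  haveI : IsScalarTower Γ(Y, (d.V : Y.Opens)) Γ(Y, (e.V : Y.Opens)) Γ(X, (e.U : X.Opens)) :=
    IsScalarTower.of_algebraMap_eq (t1 h'.2 _ _)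
  haveI : IsScalarTower Γ(Y, (d.V : Y.Opens)) Γ(X, (d.U : X.Opens)) Γ(X, (e.U : X.Opens)) :=
    IsScalarTower.of_algebraMap_eq (t2 h'.1 _ _)
  exact map_map (R := Γ(Y, (c.V : Y.Opens))) (R' := Γ(Y, (d.V : Y.Opens))) (R'' := Γ(Y, (e.V : Y.Opens)))
    (S := Γ(X, (c.U : X.Opens))) (S' := Γ(X, (d.U : X.Opens))) (S'' := Γ(X, (e.U : X.Opens))) x

theorem map_self' {R S : Type u} [CommRing R] [CommRing S] [Algebra R S] (aR : Algebra R R) (hR : ∀ r, aR.algebraMap r = r)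
    (aS : Algebra S S) (hS : ∀ s, aS.algebraMap s = s)
    [hRS : @IsScalarTower R R S aR.toSMul _ _] [hSS : @IsScalarTower R S S _ aS.toSMul _]
    (x : Algebra.H1Cotangent R S) :
    @Algebra.H1Cotangent.map R R _ _ aR S _ _ S _ _ _ hRS aS hSS x = x := by
  obtain rfl : aR = Algebra.id R := Algebra.algebra_ext _ _ hR
  obtain rfl : aS = Algebra.id S := Algebra.algebra_ext _ _ hS
  exact map_self x

theorem res_self {c : Chart f} (x : H c) : res (le_refl c) x = x :=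
  letI := (f.appLE (c.V : Y.Opens) (c.U : X.Opens) c.le).hom.toAlgebra
  map_self' (R := Γ(Y, (c.V : Y.Opens))) (S := Γ(X, (c.U : X.Opens)))
    (hRS := @IsScalarTower.of_algebraMap_eq _ _ _ _ _ _ (Y.presheaf.map (homOfLE le_rfl).op).hom.toAlgebra _ _
      fun r => (congrArg (f.appLE _ _ c.le) (fres_self le_rfl r)).symm)
    (hSS := @IsScalarTower.of_algebraMap_eq _ _ _ _ _ _ _ (X.presheaf.map (homOfLE le_rfl).op).hom.toAlgebra _
      fun r => (fres_self le_rfl _).symm)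
    (Y.presheaf.map (homOfLE le_rfl).op).hom.toAlgebra (fres_self le_rfl)
    (X.presheaf.map (homOfLE le_rfl).op).hom.toAlgebra (fres_self le_rfl) x

theorem res_smul {c d : Chart f} (h : d ≤ c) (a : Γ(X, (c.U : X.Opens))) (x : H c) :
    res h (a • x) = fres h.1 a • res h x := by
  letI := (f.appLE (c.V : Y.Opens) (c.U : X.Opens) c.le).hom.toAlgebra
  letI := (f.appLE (d.V : Y.Opens) (d.U : X.Opens) d.le).hom.toAlgebra
  letI := (f.appLE (c.V : Y.Opens) (d.U : X.Opens) (h.1.trans c.le)).hom.toAlgebra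
  letI := (X.presheaf.map (homOfLE h.1).op).hom.toAlgebra
  letI := (Y.presheaf.map (homOfLE h.2).op).hom.toAlgebra
  haveI : IsScalarTower Γ(Y, (c.V : Y.Opens)) Γ(Y, (d.V : Y.Opens)) Γ(X, (d.U : X.Opens)) :=
    IsScalarTower.of_algebraMap_eq fun r =>
      (ConcreteCategory.congr_hom (Scheme.Hom.map_appLE f d.le (homOfLE h.2).op) r).symm
  haveI : IsScalarTower Γ(Y, (c.V : Y.Opens)) Γ(X, (c.U : X.Opens)) Γ(X, (d.U : X.Opens)) :=
    IsScalarTower.of_algebraMap_eq fun r =>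
      (ConcreteCategory.congr_hom (Scheme.Hom.appLE_map f c.le (homOfLE h.1).op) r).symm
  show (Algebra.H1Cotangent.map Γ(Y, (c.V : Y.Opens)) Γ(Y, (d.V : Y.Opens)) Γ(X, (c.U : X.Opens))
    Γ(X, (d.U : X.Opens))) (a • x) = algebraMap Γ(X, (c.U : X.Opens)) Γ(X, (d.U : X.Opens)) a •
      (Algebra.H1Cotangent.map Γ(Y, (c.V : Y.Opens)) Γ(Y, (d.V : Y.Opens)) Γ(X, (c.U : X.Opens))
        Γ(X, (d.U : X.Opens))) x
  rw [map_smul, IsScalarTower.algebraMap_smul]

theorem map_bijective_of_flat_epi' {R R' S : Type u} [CommRing R] [CommRing R'] [CommRing S] [Algebra R R'] [Algebra R S]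
    [Algebra R' S] [IsScalarTower R R' S] [Module.Flat R R'] (aS : Algebra S S) (hS : ∀ s, aS.algebraMap s = s)
    [hSS : @IsScalarTower R S S _ aS.toSMul _]
    (h : Function.Bijective
      (Algebra.TensorProduct.lift (Algebra.ofId R' S) (AlgHom.id R S) fun _ _ => Commute.all _ _)) :
    Function.Bijective (@Algebra.H1Cotangent.map R R' _ _ _ S _ _ S _ _ _ _ aS hSS) := by
  obtain rfl : aS = Algebra.id S := Algebra.algebra_ext _ _ hS
  exact map_bijective_of_flat_epi h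

/-- Shrinking the base of a chart pair does not change its `H₁`. -/
theorem res_bijective_same {U : X.affineOpens} {V V' : Y.affineOpens} (e : (U : X.Opens) ≤ f ⁻¹ᵁ (V : Y.Opens))
    (e' : (U : X.Opens) ≤ f ⁻¹ᵁ (V' : Y.Opens)) (hV : (V' : Y.Opens) ≤ (V : Y.Opens))
    (h : (⟨U, V', e'⟩ : Chart f) ≤ ⟨U, V, e⟩) : Function.Bijective (res h) := by
  letI := (f.appLE (V : Y.Opens) (U : X.Opens) e).hom.toAlgebra
  letI := (f.appLE (V' : Y.Opens) (U : X.Opens) e').hom.toAlgebra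
  letI := (Y.presheaf.map (homOfLE hV).op).hom.toAlgebra
  haveI : IsScalarTower Γ(Y, (V : Y.Opens)) Γ(Y, (V' : Y.Opens)) Γ(X, (U : X.Opens)) :=
    IsScalarTower.of_algebraMap_eq fun r =>
      (ConcreteCategory.congr_hom (Scheme.Hom.map_appLE f e' (homOfLE hV).op) r).symm
  have hid : (𝟙 Y : Y ⟶ Y).appLE (V : Y.Opens) (V' : Y.Opens) hV = Y.presheaf.map (homOfLE hV).op := by
    simp [Scheme.Hom.appLE]
    exact Category.id_comp _
  haveI : Module.Flat Γ(Y, (V : Y.Opens)) Γ(Y, (V' : Y.Opens)) := by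
    have := (𝟙 Y : Y ⟶ Y).flat_appLE V.2 V'.2 hV
    rwa [hid] at this
  have hpb : IsPullback (𝟙 X) f f (𝟙 Y) := IsPullback.of_horiz_isIso ⟨by simp⟩
  have hpo := FlatH4.isPushout_sections hpb (US := V.1) (UT := V'.1) (UX := U.1) (UY := U.1) hV e
    (by simpa using e') V.2 V'.2 U.2
  have hid' : ∀ s : Γ(X, (U : X.Opens)), (𝟙 X : X ⟶ X).appLE (U : X.Opens) (U : X.Opens) le_rfl s = s := fun s => by
    simp [Scheme.Hom.appLE]
    exact fres_self le_rfl s
  simp only [hid] at hpo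
  obtain ⟨ε, hε, hε'⟩ := Pinch4.exists_bij hpo
  have hμ : Function.Bijective (Algebra.TensorProduct.lift (Algebra.ofId Γ(Y, (V' : Y.Opens)) Γ(X, (U : X.Opens)))
      (AlgHom.id Γ(Y, (V : Y.Opens)) Γ(X, (U : X.Opens))) fun _ _ => Commute.all _ _) := by
    have := hε.comp (TensorProduct.comm Γ(Y, (V : Y.Opens)) Γ(Y, (V' : Y.Opens)) Γ(X, (U : X.Opens))).bijective
    refine Eq.mp (congrArg Function.Bijective (funext fun t => ?_)) this
    induction t using TensorProduct.induction_on with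
    | zero => simp
    | tmul a b =>
      simp only [Function.comp_apply, TensorProduct.comm_tmul, hε', hid', Algebra.TensorProduct.lift_tmul,
        AlgHom.id_apply]
      exact mul_comm _ _
    | add a b ha hb => simp only [Function.comp_apply, map_add] at *; rw [ha, hb]
  exact map_bijective_of_flat_epi' (R := Γ(Y, (V : Y.Opens))) (R' := Γ(Y, (V' : Y.Opens)))
    (hSS := @IsScalarTower.of_algebraMap_eq _ _ _ _ _ _ _ (X.presheaf.map (homOfLE h.1).op).hom.toAlgebra _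
      fun r => (fres_self le_rfl _).symm)
    (X.presheaf.map (homOfLE h.1).op).hom.toAlgebra (fres_self le_rfl) hμ

/-- The basic open chart below a chart. -/
noncomputable abbrev bo (c : Chart f) (g : Γ(X, (c.U : X.Opens))) : Chart f :=
  ⟨⟨X.basicOpen g, c.U.2.basicOpen g⟩, c.V, (X.basicOpen_le g).trans c.le⟩

theorem bo_le (c : Chart f) (g : Γ(X, (c.U : X.Opens))) : bo c g ≤ c := ⟨X.basicOpen_le g, le_rfl⟩

/-- Restriction to a basic open is a localisation. -/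
theorem res_loc (c : Chart f) (g : Γ(X, (c.U : X.Opens))) :
    (∀ y : H (bo c g), ∃ (n : ℕ) (x : H c),
        res (bo_le c g) x = fres (X.basicOpen_le g) g ^ n • y) ∧
      ∀ x : H c, res (bo_le c g) x = 0 → ∃ n : ℕ, g ^ n • x = 0 := by
  letI := (f.appLE (c.V : Y.Opens) (c.U : X.Opens) c.le).hom.toAlgebra
  letI := (f.appLE (c.V : Y.Opens) (X.basicOpen g) ((X.basicOpen_le g).trans c.le)).hom.toAlgebra
  letI := (X.presheaf.map (homOfLE (X.basicOpen_le g)).op).hom.toAlgebra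
  haveI : IsLocalization.Away g Γ(X, X.basicOpen g) := c.U.2.isLocalization_basicOpen g
  haveI : IsScalarTower Γ(Y, (c.V : Y.Opens)) Γ(X, (c.U : X.Opens)) Γ(X, X.basicOpen g) :=
    IsScalarTower.of_algebraMap_eq fun r =>
      (ConcreteCategory.congr_hom (Scheme.Hom.appLE_map f c.le (homOfLE (X.basicOpen_le g)).op) r).symm
  let L := Algebra.H1Cotangent.map Γ(Y, (c.V : Y.Opens)) Γ(Y, (c.V : Y.Opens)) Γ(X, (c.U : X.Opens))
    Γ(X, X.basicOpen g)
  have hL : ∀ x, res (bo_le c g) x = L x := fun x => by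
    have key : ∀ (a : Algebra Γ(Y, (c.V : Y.Opens)) Γ(Y, (c.V : Y.Opens))) (_ : ∀ r, a.algebraMap r = r)
        [i : @IsScalarTower Γ(Y, (c.V : Y.Opens)) Γ(Y, (c.V : Y.Opens)) Γ(X, X.basicOpen g) a.toSMul _ _],
        (@Algebra.H1Cotangent.map Γ(Y, (c.V : Y.Opens)) Γ(Y, (c.V : Y.Opens)) _ _ a Γ(X, (c.U : X.Opens)) _ _
          Γ(X, X.basicOpen g) _ _ _ i _ _) x = L x := by
      intro a ha i
      obtain rfl : a = Algebra.id _ := Algebra.algebra_ext _ _ ha
      rfl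
    exact key (Y.presheaf.map (homOfLE le_rfl).op).hom.toAlgebra (fres_self le_rfl)
      (i := @IsScalarTower.of_algebraMap_eq _ _ _ _ _ _ (Y.presheaf.map (homOfLE le_rfl).op).hom.toAlgebra _ _
        fun r => (congrArg (f.appLE _ _ _) (fres_self le_rfl r)).symm)
  have hsm : ∀ (n : ℕ) (y : H (bo c g)), g ^ n • y = fres (X.basicOpen_le g) g ^ n • y := fun n y => by
    rw [← map_pow]; exact (IsScalarTower.algebraMap_smul _ _ _).symm
  refine ⟨fun y => ?_, fun x hx => ?_⟩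
  · obtain ⟨⟨x, s⟩, hxs⟩ := IsLocalizedModule.surj (Submonoid.powers g) L y
    obtain ⟨n, hn⟩ := s.2
    refine ⟨n, x, ?_⟩
    rw [hL]
    refine Eq.trans hxs.symm (Eq.trans ?_ (hsm n y))
    show (s : Γ(X, (c.U : X.Opens))) • y = _
    rw [← hn]
  · rw [hL] at hx
    obtain ⟨s, hs⟩ := (IsLocalizedModule.eq_zero_iff (Submonoid.powers g) L).1 hx
    obtain ⟨n, hn⟩ := s.2
    exact ⟨n, (congrArg (· • x) hn).trans hs⟩

end Groth.Agent.H1Sh4
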