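import Mathlib

/-!
# The class in `H₁` of an element of the kernel of the structure map
-/

set_option autoImplicit false
set_option linter.style.haveILetI false
universe u

open TensorProduct

namespace Groth.Agent.H1Sh4

variable {R S : Type u} [CommRing R] [CommRing S] [Algebra R S]

theorem algebraMap_mem_ker {a : R} (ha : algebraMap R S a = 0) :
    algebraMap R (Algebra.Generators.self R S).toExtension.Ring a ∈ (Algebra.Generators.self R S).toExtension.ker := by
  rw [Algebra.Extension.ker, RingHom.mem_ker, ← IsScalarTower.algebraMap_apply]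
  exact ha

/-- The class of an element killed by the structure map. -/
noncomputable def cls (a : R) (ha : algebraMap R S a = 0) : Algebra.H1Cotangent R S :=
  ⟨Algebra.Extension.Cotangent.mk ⟨_, algebraMap_mem_ker ha⟩, by
    rw [LinearMap.mem_ker, Algebra.Extension.cotangentComplex_mk]
    simp [Derivation.map_algebraMap]⟩

theorem cls_congr {a b : R} (h : a = b) (ha : algebraMap R S a = 0) :
    cls a ha = cls b (h ▸ ha) := by subst h; rfl

theorem cls_add (a b : R) (ha : algebraMap R S a = 0) (hb : algebraMap R S b = 0) :
    cls (a + b) (by rw [map_add, ha, hb, add_zero]) = cls a ha + cls b hb := by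
  refine Subtype.ext ?_
  refine Eq.trans ?_ (map_add Algebra.Extension.Cotangent.mk _ _)
  exact congrArg Algebra.Extension.Cotangent.mk (Subtype.ext (map_add _ _ _))

theorem cls_mul (r a : R) (ha : algebraMap R S a = 0) :
    cls (r * a) (by rw [map_mul, ha, mul_zero]) = algebraMap R S r • cls a ha := by
  refine Subtype.ext ?_
  let P := (Algebra.Generators.self R S).toExtension
  refine Eq.trans ?_ (((congrArg (· • Algebra.Extension.Cotangent.mk (P := P) ⟨_, algebraMap_mem_ker ha⟩)
    (IsScalarTower.algebraMap_apply R P.Ring S r)).trans (IsScalarTower.algebraMap_smul S (algebraMap R P.Ring r) _)).symm)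
  refine Eq.trans ?_ (LinearMap.map_smul Algebra.Extension.Cotangent.mk (algebraMap R P.Ring r) _)
  exact congrArg Algebra.Extension.Cotangent.mk (Subtype.ext (map_mul _ _ _))

section map

variable {R' S' : Type u} [CommRing R'] [CommRing S'] [Algebra R' S'] [Algebra R R'] [Algebra S S'] [Algebra R S']
  [IsScalarTower R R' S'] [IsScalarTower R S S']

theorem map_cls (a : R) (ha : algebraMap R S a = 0) :
    Algebra.H1Cotangent.map R R' S S' (cls a ha) = cls (algebraMap R R' a) (by
      rw [← IsScalarTower.algebraMap_apply, IsScalarTower.algebraMap_apply R S S', ha, map_zero]) := by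
  refine Subtype.ext ?_
  show Algebra.Extension.Cotangent.map _ (Algebra.Extension.Cotangent.mk _) = Algebra.Extension.Cotangent.mk _
  rw [Algebra.Extension.Cotangent.map_mk]
  congr 1
  exact Subtype.ext (Algebra.Extension.Hom.toRingHom_algebraMap _ a)

end map

theorem exists_cls (h : Function.Surjective (algebraMap R S)) (x : Algebra.H1Cotangent R S) :
    ∃ (a : R) (ha : algebraMap R S a = 0), x = cls a ha := by
  let P : Algebra.Extension R S := Algebra.Extension.ofSurjective (Algebra.ofId R S) h
  let φ : P.Hom (Algebra.Generators.self R S).toExtension :=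
    .ofAlgHom (Algebra.ofId _ _) (AlgHom.ext fun r => (IsScalarTower.algebraMap_apply R (Algebra.Generators.self R S).toExtension.Ring S r).symm)
  let e := Algebra.Extension.H1Cotangent.equiv φ P.defaultHom
  obtain ⟨y, rfl⟩ := e.surjective x
  obtain ⟨⟨a, ha⟩, hy⟩ := Algebra.Extension.Cotangent.mk_surjective y.1
  refine ⟨a, ha, Subtype.ext ?_⟩
  show Algebra.Extension.Cotangent.map φ y.1 = Algebra.Extension.Cotangent.mk _
  rw [← hy, Algebra.Extension.Cotangent.map_mk]
  rfl

theorem mem_sq_of_cls_eq_zero (h : Function.Surjective (algebraMap R S)) (a : R) (ha : algebraMap R S a = 0)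
    (h0 : cls a ha = 0) : a ∈ (RingHom.ker (algebraMap R S)) ^ 2 := by
  let P : Algebra.Extension R S := Algebra.Extension.ofSurjective (Algebra.ofId R S) h
  let φ : P.Hom (Algebra.Generators.self R S).toExtension :=
    .ofAlgHom (Algebra.ofId _ _) (AlgHom.ext fun r => (IsScalarTower.algebraMap_apply R (Algebra.Generators.self R S).toExtension.Ring S r).symm)
  let e := Algebra.Extension.H1Cotangent.equiv φ P.defaultHom
  haveI : Subsingleton Ω[P.Ring⁄R] :=
    KaehlerDifferential.subsingleton_of_surjective R P.Ring Function.surjective_id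
  let y : P.H1Cotangent := ⟨Algebra.Extension.Cotangent.mk ⟨a, ha⟩, Subsingleton.elim _ _⟩
  have hy : e y = cls a ha := by
    refine Subtype.ext ?_
    show Algebra.Extension.Cotangent.map φ (Algebra.Extension.Cotangent.mk _) = Algebra.Extension.Cotangent.mk _
    rw [Algebra.Extension.Cotangent.map_mk]
    rfl
  have : y = 0 := e.injective (by rw [hy, h0, map_zero])
  exact (Algebra.Extension.Cotangent.mk_eq_zero_iff _).1 (congrArg Subtype.val this)

end Groth.Agent.H1Sh4
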