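import Groth.Agent.Lib.H1Sh4.Main
import Groth.Agent.Lib.H1Sh4.ImmRing
import Groth.Agent.Lib.PullBC11.Crit
import Groth.Agent.Lib.TensorMod.IdealMod
import Groth.Prelude.Def_Omega2

/-!
# The conormal sheaf of an immersion is `H⁻¹` of the naive cotangent complex
-/

set_option autoImplicit false
set_option linter.style.haveILetI false
set_option backward.isDefEq.respectTransparency.types false
set_option maxHeartbeats 1000000
universe u

open CategoryTheory CategoryTheory.Limits AlgebraicGeometry TopologicalSpace Opposite TensorProduct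

namespace Groth.Agent.H1Sh4

variable {Z X : Scheme.{u}} (i : Z ⟶ X)

/-- Restriction of functions on the target. -/
noncomputable abbrev yres {U V : X.Opens} (h : V ≤ U) : Γ(X, U) ⟶ Γ(X, V) := X.presheaf.map (homOfLE h).op

/-- The class on a chart of a function killed by the chart map. -/
noncomputable def chartCls (c : Chart i) (a : Γ(X, (c.V : X.Opens)))
    (ha : i.appLE (c.V : X.Opens) (c.U : Z.Opens) c.le a = 0) : H c :=
  letI := (i.appLE (c.V : X.Opens) (c.U : Z.Opens) c.le).hom.toAlgebra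
  cls a ha

theorem chartCls_congr (c : Chart i) {a b : Γ(X, (c.V : X.Opens))} (h : a = b)
    (ha : i.appLE (c.V : X.Opens) (c.U : Z.Opens) c.le a = 0) : chartCls i c a ha = chartCls i c b (h ▸ ha) := by
  subst h; rfl

theorem chartCls_add (c : Chart i) (a b : Γ(X, (c.V : X.Opens)))
    (ha : i.appLE (c.V : X.Opens) (c.U : Z.Opens) c.le a = 0) (hb : i.appLE (c.V : X.Opens) (c.U : Z.Opens) c.le b = 0) :
    chartCls i c (a + b) (by rw [map_add, ha, hb, add_zero]) = chartCls i c a ha + chartCls i c b hb :=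
  letI := (i.appLE (c.V : X.Opens) (c.U : Z.Opens) c.le).hom.toAlgebra
  cls_add a b ha hb

theorem chartCls_mul (c : Chart i) (r a : Γ(X, (c.V : X.Opens)))
    (ha : i.appLE (c.V : X.Opens) (c.U : Z.Opens) c.le a = 0) :
    chartCls i c (r * a) (by rw [map_mul, ha, mul_zero]) =
      i.appLE (c.V : X.Opens) (c.U : Z.Opens) c.le r • chartCls i c a ha :=
  letI := (i.appLE (c.V : X.Opens) (c.U : Z.Opens) c.le).hom.toAlgebra
  cls_mul r a ha

theorem appLE_yres {c d : Chart i} (h : d ≤ c) (a : Γ(X, (c.V : X.Opens))) :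
    i.appLE (d.V : X.Opens) (d.U : Z.Opens) d.le (yres h.2 a) =
      fres h.1 (i.appLE (c.V : X.Opens) (c.U : Z.Opens) c.le a) :=
  (ConcreteCategory.congr_hom (Scheme.Hom.map_appLE i d.le (homOfLE h.2).op) a).trans
    (ConcreteCategory.congr_hom (Scheme.Hom.appLE_map i c.le (homOfLE h.1).op) a).symm

theorem res_chartCls {c d : Chart i} (h : d ≤ c) (a : Γ(X, (c.V : X.Opens)))
    (ha : i.appLE (c.V : X.Opens) (c.U : Z.Opens) c.le a = 0) :
    res h (chartCls i c a ha) = chartCls i d (yres h.2 a) (by rw [appLE_yres i h, ha, map_zero]) := by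
  letI := (i.appLE (c.V : X.Opens) (c.U : Z.Opens) c.le).hom.toAlgebra
  letI := (i.appLE (d.V : X.Opens) (d.U : Z.Opens) d.le).hom.toAlgebra
  letI := (i.appLE (c.V : X.Opens) (d.U : Z.Opens) (h.1.trans c.le)).hom.toAlgebra
  letI := (Z.presheaf.map (homOfLE h.1).op).hom.toAlgebra
  letI := (X.presheaf.map (homOfLE h.2).op).hom.toAlgebra
  haveI : IsScalarTower Γ(X, (c.V : X.Opens)) Γ(X, (d.V : X.Opens)) Γ(Z, (d.U : Z.Opens)) :=
    IsScalarTower.of_algebraMap_eq fun r =>
      (ConcreteCategory.congr_hom (Scheme.Hom.map_appLE i d.le (homOfLE h.2).op) r).symm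
  haveI : IsScalarTower Γ(X, (c.V : X.Opens)) Γ(Z, (c.U : Z.Opens)) Γ(Z, (d.U : Z.Opens)) :=
    IsScalarTower.of_algebraMap_eq fun r =>
      (ConcreteCategory.congr_hom (Scheme.Hom.appLE_map i c.le (homOfLE h.1).op) r).symm
  exact map_cls (R := Γ(X, (c.V : X.Opens))) (S := Γ(Z, (c.U : Z.Opens))) (R' := Γ(X, (d.V : X.Opens)))
    (S' := Γ(Z, (d.U : Z.Opens))) a ha

theorem app_eq_zero_of_eq {A B : Scheme.{u}} {p q : A ⟶ B} (h : p = q) {U : B.Opens} {a : Γ(B, U)}
    (ha : p.app U a = 0) : q.app U a = 0 := by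
  subst h; exact ha

/-- Sections of the ideal are killed by the immersion. -/
theorem app_idealIncl {W : X.Opens} (a : Γ(ClSub.idealMod i.ker, W)) : i.app W (M2.idealIncl i.ker a) = 0 := by
  refine app_eq_zero_of_eq i.toImage_imageι ?_
  refine (congr($(Scheme.Hom.comp_app i.toImage i.imageι W) _)).trans ?_
  exact (congrArg (i.toImage.app _) (M2.subschemeι_app_idealIncl i.ker a)).trans (map_zero _)

theorem appLE_idealIncl {W : X.Opens} (a : Γ(ClSub.idealMod i.ker, W)) {V : X.Opens} (hV : V ≤ W) {U : Z.Opens}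
    (e : U ≤ i ⁻¹ᵁ V) : i.appLE V U e (yres hV (M2.idealIncl i.ker a)) = 0 := by
  refine (ConcreteCategory.congr_hom (Scheme.Hom.map_appLE i e (homOfLE hV).op) _).trans ?_
  rw [Scheme.Hom.appLE, CommRingCat.comp_apply, app_idealIncl, map_zero]

/-- The class on a small chart of a section of the ideal. -/
noncomputable def sCls {W : X.Opens} (a : Γ(ClSub.idealMod i.ker, W)) (d : Chart i) (hd : (d.V : X.Opens) ≤ W) :
    H d :=
  chartCls i d (yres hd (M2.idealIncl i.ker a)) (appLE_idealIncl i a hd d.le)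

theorem exists_small {W : X.Opens} (c : In i (i ⁻¹ᵁ W)) : ∀ p ∈ (c.1.U : Z.Opens),
    ∃ d : Chart i, d ≤ c.1 ∧ (d.V : X.Opens) ≤ W ∧ p ∈ (d.U : Z.Opens) := fun p hp => by
  obtain ⟨d, hpd, hdU, hdV⟩ := exists_chart_mem (f := i) (O := (c.1.U : Z.Opens))
    (O' := (c.1.V : X.Opens) ⊓ W) p hp ⟨c.1.le hp, c.2 hp⟩
  exact ⟨d, ⟨hdU, hdV.trans inf_le_left⟩, hdV.trans inf_le_right, hpd⟩

theorem exists_theta {W : X.Opens} (a : Γ(ClSub.idealMod i.ker, W)) (c : In i (i ⁻¹ᵁ W)) :
    ∃ x : H c.1, ∀ d (h : d ≤ c.1) (q : (d.V : X.Opens) ≤ W), res h x = sCls i a d q :=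
  glue c.1 (fun d => (d.V : X.Opens) ≤ W) (fun d _ q => sCls i a d q) (fun _ _ q h => h.2.trans q)
    (exists_small i c) fun d d' _ _ q q' h => (res_chartCls i h _ _).trans
      (chartCls_congr i d' (fres_fres (X := X) q h.2 _) _)

theorem ext_small {W : X.Opens} (c : In i (i ⁻¹ᵁ W)) (x y : H c.1)
    (h : ∀ d (h : d ≤ c.1), (d.V : X.Opens) ≤ W → res h x = res h y) : x = y :=
  ext_res _ _ _ fun p hp => by
    obtain ⟨d, hd, hdW, hpd⟩ := exists_small i c p hp
    exact ⟨d, hd, hpd, h d hd hdW⟩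

/-- The family of classes of a section of the ideal. -/
noncomputable def theta {W : X.Opens} (a : Γ(ClSub.idealMod i.ker, W)) : Fam i (i ⁻¹ᵁ W) :=
  ⟨fun c => (exists_theta i a c).choose, fun c c' h => ext_small i c' _ _ fun d hd q => by
    rw [res_res, (exists_theta i a c).choose_spec d _ q, (exists_theta i a c').choose_spec d hd q]⟩

theorem res_theta {W : X.Opens} (a : Γ(ClSub.idealMod i.ker, W)) (c : In i (i ⁻¹ᵁ W)) (d : Chart i) (h : d ≤ c.1)
    (q : (d.V : X.Opens) ≤ W) : res h ((theta i a).1 c) = sCls i a d q :=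
  (exists_theta i a c).choose_spec d h q

theorem theta_add {W : X.Opens} (a b : Γ(ClSub.idealMod i.ker, W)) : theta i (a + b) = theta i a + theta i b :=
  fam_ext fun c => ext_small i c _ _ fun d h q => by
    show res h ((theta i (a + b)).1 c) = res h ((theta i a).1 c + (theta i b).1 c)
    rw [map_add, res_theta _ _ _ _ _ q, res_theta _ _ _ _ _ q, res_theta _ _ _ _ _ q]
    exact (chartCls_congr i d (by rw [M2.idealIncl_add, map_add]) _).trans (chartCls_add i d _ _ _ _)

theorem theta_smul {W : X.Opens} (r : Γ(X, W)) (a : Γ(ClSub.idealMod i.ker, W)) :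
    theta i (r • a) = i.app W r • theta i a :=
  fam_ext fun c => ext_small i c _ _ fun d h q => by
    rw [fam_smul, res_smul, res_theta _ _ _ _ _ q, res_theta _ _ _ _ _ q, fres_fres]
    refine (chartCls_congr i d (b := yres q r * yres q (M2.idealIncl i.ker a))
      (by rw [M2.idealIncl_smul, map_mul]) _).trans ((chartCls_mul i d _ _ (appLE_idealIncl i a q d.le)).trans ?_)
    refine congrArg (· • sCls i a d q) ?_
    exact (ConcreteCategory.congr_hom (Scheme.Hom.map_appLE i d.le (homOfLE q).op) r).trans rfl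

theorem theta_res {W W' : X.Opens} (h : W' ≤ W) (a : Γ(ClSub.idealMod i.ker, W)) :
    theta i (M1.mres (ClSub.idealMod i.ker) h a) = famRes i ((Opens.map i.base).map (homOfLE h)).le (theta i a) :=
  fam_ext fun c => ext_small i c _ _ fun d hd q => by
    refine (res_theta _ _ _ _ _ q).trans (Eq.trans ?_ (res_theta i a ⟨c.1, fun p hp => h (c.2 hp)⟩ d hd (q.trans h)).symm)
    exact chartCls_congr i d ((congrArg (yres q) (M2.idealIncl_res i.ker h a)).trans (fres_fres (X := X) h q _)) _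

/-- The comparison map from the ideal. -/
noncomputable def thetaHom : ClSub.idealMod i.ker ⟶ (Scheme.Modules.pushforward i).obj (h1Mod i) :=
  ⟨PresheafOfModules.homMk
    { app := fun W => AddCommGrpCat.ofHom
        { toFun := fun a => (theta i a : Fam i (i ⁻¹ᵁ W.unop))
          map_zero' := left_eq_add.1 ((congrArg (theta i) (add_zero (0 : Γ(ClSub.idealMod i.ker, W.unop))).symm).trans
            (theta_add i 0 0))
          map_add' := theta_add i }
      naturality := fun W W' g => by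
        ext a
        exact theta_res i g.unop.le a }
    (fun W r a => theta_smul i r a)⟩

theorem thetaHom_app {W : X.Opens} (a : Γ(ClSub.idealMod i.ker, W)) :
    (show Fam i (i ⁻¹ᵁ W) from (thetaHom i).app W a) = theta i a := rfl

theorem isAffine_preimage_and_surjective [IsImmersion i] (U : X.affineOpens) (hU : U.1 ≤ i.coborderRange) :
    IsAffineOpen (i ⁻¹ᵁ U.1) ∧ Function.Surjective (i.app U.1) := by
  set W := i.coborderRange
  have hWU : IsAffineOpen (W.ι ⁻¹ᵁ U.1) :=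
    U.2.preimage_of_isOpenImmersion W.ι (by rw [Scheme.Opens.opensRange_ι]; exact hU)
  haveI : IsIso (W.ι.app U.1) := Scheme.Hom.isIso_app _ _ (by rw [Scheme.Opens.opensRange_ι]; exact hU)
  have h2 : Function.Surjective (i.liftCoborder.app (W.ι ⁻¹ᵁ U.1)) :=
    i.liftCoborder.app_surjective _ hWU
  have e : i.liftCoborder ≫ W.ι = i := i.liftCoborder_ι
  refine ⟨?_, ?_⟩
  · rw [← e, Scheme.Hom.comp_preimage]
    exact hWU.preimage i.liftCoborder
  · have h3 : Function.Surjective ((i.liftCoborder ≫ W.ι).app U.1) := by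
      intro t
      obtain ⟨s, hs⟩ := h2 t
      obtain ⟨r, hr⟩ := (ConcreteCategory.bijective_of_isIso (W.ι.app U.1)).2 s
      exact ⟨r, (congr($(Scheme.Hom.comp_app i.liftCoborder W.ι U.1) r)).trans ((congrArg _ hr).trans hs)⟩
    revert h3
    rw [show (i.liftCoborder ≫ W.ι) = i from e]
    exact id

theorem isBC_theta [IsImmersion i] [QuasiCompact i] (U : X.affineOpens) (hU : U.1 ≤ i.coborderRange) :
    PullBC11.IsBC (thetaHom i) (le_refl (i ⁻¹ᵁ U.1)) := by
  obtain ⟨hV, hsurj⟩ := isAffine_preimage_and_surjective i U hU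
  let c : Chart i := ⟨⟨i ⁻¹ᵁ U.1, hV⟩, U, le_rfl⟩
  have hA : ∀ a, i.appLE U.1 (i ⁻¹ᵁ U.1) le_rfl a = i.app U.1 a := fun a => by
    rw [← Scheme.Hom.app_eq_appLE]
  have hθ : ∀ a : Γ(ClSub.idealMod i.ker, U.1),
      (theta i a).1 ⟨c, le_rfl⟩ = chartCls i c (M2.idealIncl i.ker a) (by rw [hA, app_idealIncl]) := fun a => by
    have := res_theta i a ⟨c, le_rfl⟩ c le_rfl (le_refl U.1)
    rw [res_self] at this
    exact this.trans (chartCls_congr i c (fres_self (X := X) le_rfl _) _)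
  have hker : ∀ a : Γ(X, U.1), i.app U.1 a = 0 → ∃ a', M2.idealIncl i.ker (U := U.1) a' = a := fun a ha =>
    (M2.range_idealIncl i.ker U).ge (show a ∈ i.ker.ideal U by rw [Scheme.Hom.ker_apply]; exact ha)
  have hmres : ∀ a : Γ(ClSub.idealMod i.ker, U.1),
      M1.mres (h1Mod i) (le_refl (i ⁻¹ᵁ U.1)) ((thetaHom i).app U.1 a) = (thetaHom i).app U.1 a := fun a =>
    M1.mres_id _ _ _
  refine PullBC11.isBC_of _ _ (fun t => ?_) ?_
  · letI := (i.appLE U.1 (i ⁻¹ᵁ U.1) le_rfl).hom.toAlgebra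
    obtain ⟨a, ha, hx⟩ := exists_cls (R := Γ(X, U.1)) (S := Γ(Z, i ⁻¹ᵁ U.1))
      (fun s => (hsurj s).imp fun a h => (hA a).trans h) ((show Fam i (i ⁻¹ᵁ U.1) from t).1 ⟨c, le_rfl⟩)
    obtain ⟨a', ha'⟩ := hker a ((hA a).symm.trans ha)
    refine Submodule.subset_span ⟨a', (hmres a').trans ?_⟩
    refine (eval_bijective i c).1 ?_
    show (theta i a').1 ⟨c, le_rfl⟩ = (show Fam i (i ⁻¹ᵁ U.1) from t).1 ⟨c, le_rfl⟩
    rw [hθ, hx]
    exact chartCls_congr i c ha' _
  · intro z hz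
    letI := (i.appLE U.1 (i ⁻¹ᵁ U.1) le_rfl).hom.toAlgebra
    letI := PullBC11.baseModule (g := i) (h1Mod i) (le_refl (i ⁻¹ᵁ U.1))
    have hs : Function.Surjective (algebraMap Γ(X, U.1) Γ(Z, i ⁻¹ᵁ U.1)) :=
      fun s => (hsurj s).imp fun a h => (hA a).trans h
    obtain ⟨a, rfl⟩ := TensorProduct.mk_surjective Γ(X, U.1) Γ(ClSub.idealMod i.ker, U.1) Γ(Z, i ⁻¹ᵁ U.1) hs z
    rw [TensorProduct.mk_apply, LinearMap.liftBaseChange_one_tmul] at hz
    have h0 : theta i a = 0 := (hmres a).symm.trans hz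
    have h1 : chartCls i c (M2.idealIncl i.ker a) (by rw [hA, app_idealIncl]) = 0 := by
      rw [← hθ, h0]; rfl
    have h2 := mem_sq_of_cls_eq_zero (R := Γ(X, U.1)) (S := Γ(Z, i ⁻¹ᵁ U.1)) hs _ _ h1
    rw [pow_two] at h2
    obtain ⟨a', ha', hz'⟩ : ∃ a', M2.idealIncl i.ker a' = M2.idealIncl i.ker a ∧
        (1 : Γ(Z, i ⁻¹ᵁ U.1)) ⊗ₜ[Γ(X, U.1)] a' = 0 := by
      refine Submodule.mul_induction_on h2 (fun b hb b' hb' => ?_) fun x y ⟨a₁, e₁, z₁⟩ ⟨a₂, e₂, z₂⟩ => ?_
      · obtain ⟨a₁, ha₁⟩ := hker b' ((hA b').symm.trans hb')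
        refine ⟨b • a₁, by rw [M2.idealIncl_smul, ha₁], ?_⟩
        rw [TensorProduct.tmul_smul, TensorProduct.smul_tmul', Algebra.smul_def,
          show algebraMap Γ(X, U.1) Γ(Z, i ⁻¹ᵁ U.1) b = 0 from hb, zero_mul, TensorProduct.zero_tmul]
      · exact ⟨a₁ + a₂, by rw [M2.idealIncl_add, e₁, e₂], by rw [TensorProduct.tmul_add, z₁, z₂, add_zero]⟩
    rw [TensorProduct.mk_apply, ← M2.idealIncl_injective i.ker U.1 ha']
    exact hz'

/-- The conormal sheaf carries the `H⁻¹` structure. -/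
theorem nonempty_h1Sheaf_conormal [IsImmersion i] [QuasiCompact i] :
    Nonempty (NLCx.H1Sheaf i (Omega.conormal i)) := by
  obtain ⟨h⟩ := nonempty_h1Sheaf i
  have hI : IsIso (((Scheme.Modules.pullbackPushforwardAdjunction i).homEquiv (ClSub.idealMod i.ker) (h1Mod i)).symm
      (thetaHom i)) := by
    refine PullBC11.isIso_of_isBC _ (M2.isQCoh_idealMod _) (isQCoh_of_h1Sheaf i _ h) fun z => ?_
    obtain ⟨U, hU, hzU, hUW⟩ := exists_isAffineOpen_mem_and_subset (x := i z) (U := i.coborderRange)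
      (subset_coborder ⟨z, rfl⟩)
    exact ⟨U, hU, i ⁻¹ᵁ U, (isAffine_preimage_and_surjective i ⟨U, hU⟩ hUW).1, le_rfl, hzU,
      isBC_theta i ⟨U, hU⟩ hUW⟩
  let φ : Omega.conormal i ≅ h1Mod i :=
    @asIso _ _ _ _ _ hI
  have hb : ∀ U, Function.Bijective (φ.hom.app U) := fun U => ConcreteCategory.bijective_of_isIso _
  exact ⟨{
    iso := fun U V e => (AddEquiv.ofBijective (φ.hom.app U.1).hom (hb U.1)).trans (h.iso U V e)
    map_smul := fun U V e a m =>
      (congrArg (h.iso U V e) (Scheme.Modules.Hom.app_smul φ.hom a m)).trans (h.map_smul U V e a _)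
    map_res := fun {U U' V V'} e e' hU hV m =>
      (congrArg (h.iso U' V' e') (M1.map_app_eq φ.hom hU m)).trans (h.map_res e e' hU hV _) }⟩

theorem onCharts_omega [IsImmersion i] :
    NLCx.OnCharts i (fun A B _ _ _ => Subsingleton (Ω[B⁄A])) := by
  intro U V e
  letI := (i.appLE V.1 U.1 e).hom.toAlgebra
  haveI : FormallyUnramified i := inferInstance
  haveI : Algebra.FormallyUnramified Γ(X, V.1) Γ(Z, U.1) := i.formallyUnramified_appLE V.2 U.2 e
  exact Algebra.FormallyUnramified.subsingleton_kaehlerDifferential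

end Groth.Agent.H1Sh4
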