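import Groth.Agent.Lib.H1Sh4.Sheaf
import Groth.Agent.Lib.ModM1.QcohCrit
import Groth.Agent.Lib.ModM1.Local

/-!
# Existence and quasi-coherence of `H⁻¹` of the naive cotangent complex
-/

set_option autoImplicit false
set_option linter.style.haveILetI false
set_option backward.isDefEq.respectTransparency.types false
set_option maxHeartbeats 1000000
universe u

open CategoryTheory AlgebraicGeometry TopologicalSpace Opposite

namespace Groth.Agent.H1Sh4

variable {X Y : Scheme.{u}} (f : X ⟶ Y)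

noncomputable instance (W : (Opens X)ᵒᵖ) : Module (X.ringCatSheaf.obj.obj W) ((famPre f).obj W) :=
  inferInstanceAs (Module Γ(X, W.unop) (Fam f W.unop))

theorem famPre_map_smul ⦃W W' : (Opens X)ᵒᵖ⦄ (g : W ⟶ W') (r : X.ringCatSheaf.obj.obj W)
    (s : (famPre f).obj W) :
    (famPre f).map g (r • s) = X.ringCatSheaf.obj.map g r • (famPre f).map g s := by
  refine fam_ext fun i => ?_
  show fres (i.2.trans g.unop.le) (show Γ(X, W.unop) from r) • (show Fam f W.unop from s).1 ⟨i.1, i.2.trans g.unop.le⟩ =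
    fres i.2 (fres g.unop.le (show Γ(X, W.unop) from r)) • (show Fam f W.unop from s).1 ⟨i.1, i.2.trans g.unop.le⟩
  rw [fres_fres]

theorem famPre_isSheaf : TopCat.Presheaf.IsSheaf (famPre f : TopCat.Presheaf AddCommGrpCat.{u} X.carrier) := by
  rw [TopCat.Presheaf.isSheaf_iff_isSheafUniqueGluing]
  intro ι W sf hsf
  let sf' : ∀ k, Fam f (W k) := sf
  have hsf' : ∀ (k l : ι) (c : Chart f) (hk : (c.U : X.Opens) ≤ W k) (hl : (c.U : X.Opens) ≤ W l),
      (sf' k).1 ⟨c, hk⟩ = (sf' l).1 ⟨c, hl⟩ := fun k l c hk hl =>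
    congrArg (fun t : Fam f (W k ⊓ W l) => t.1 ⟨c, le_inf hk hl⟩) (hsf k l)
  have key : ∀ c : In f (iSup W), ∃ x : H c.1,
      ∀ d (h : d ≤ c.1) (q : ∃ k, (d.U : X.Opens) ≤ W k), res h x = (sf' q.choose).1 ⟨d, q.choose_spec⟩ := by
    intro c
    refine glue c.1 (fun d => ∃ k, (d.U : X.Opens) ≤ W k) (fun d _ q => (sf' q.choose).1 ⟨d, q.choose_spec⟩)
      (fun d d' ⟨k, hk⟩ h => ⟨k, h.1.trans hk⟩) (fun p hp => ?_) fun d d' hd hd' q q' h => ?_
    · obtain ⟨k, hk⟩ := Opens.mem_iSup.1 (c.2 hp)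
      obtain ⟨d, hpd, hdU, hdV⟩ := exists_chart_mem (f := f) (O := (c.1.U : X.Opens) ⊓ W k) (O' := (c.1.V : Y.Opens)) p
        ⟨hp, hk⟩ (c.1.le hp)
      exact ⟨d, ⟨hdU.trans inf_le_left, hdV⟩, ⟨k, hdU.trans inf_le_right⟩, hpd⟩
    · rw [(sf' q.choose).2 ⟨d, q.choose_spec⟩ ⟨d', h.1.trans q.choose_spec⟩ h]
      exact hsf' _ _ _ _ _
  choose x hx using key
  have hcov : ∀ c : In f (iSup W), ∀ p ∈ (c.1.U : X.Opens),
      ∃ (d : Chart f) (_ : d ≤ c.1) (_ : ∃ k, (d.U : X.Opens) ≤ W k), p ∈ (d.U : X.Opens) := fun c p hp => by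
    obtain ⟨k, hk⟩ := Opens.mem_iSup.1 (c.2 hp)
    obtain ⟨d, hpd, hdU, hdV⟩ := exists_chart_mem (f := f) (O := (c.1.U : X.Opens) ⊓ W k) (O' := (c.1.V : Y.Opens)) p
      ⟨hp, hk⟩ (c.1.le hp)
    exact ⟨d, ⟨hdU.trans inf_le_left, hdV⟩, ⟨k, hdU.trans inf_le_right⟩, hpd⟩
  let s : Fam f (iSup W) := ⟨x, fun c c' h => ext_res _ _ _ fun p hp => by
    obtain ⟨d, hd, q, hpd⟩ := hcov c' p hp
    exact ⟨d, hd, hpd, by rw [res_res, hx c d (hd.trans h) q, hx c' d hd q]⟩⟩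
  refine ⟨s, fun k => fam_ext fun i => ?_, fun t ht => fam_ext fun c => ext_res _ _ _ fun p hp => ?_⟩
  · show x ⟨i.1, i.2.trans (le_iSup W k)⟩ = (sf' k).1 i
    have := hx ⟨i.1, i.2.trans (le_iSup W k)⟩ i.1 le_rfl ⟨k, i.2⟩
    rw [res_self] at this
    rw [this]
    exact hsf' _ _ _ _ _
  · obtain ⟨d, hd, q, hpd⟩ := hcov c p hp
    refine ⟨d, hd, hpd, ?_⟩
    rw [hx c d hd q, (show Fam f (iSup W) from t).2 c ⟨d, hd.1.trans c.2⟩ hd]
    exact congrArg (fun t : Fam f (W q.choose) => t.1 ⟨d, q.choose_spec⟩) (ht q.choose)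

/-- The sheaf `H⁻¹` of the naive cotangent complex. -/
noncomputable def h1Mod : X.Modules :=
  ⟨PresheafOfModules.ofPresheaf (R := X.ringCatSheaf.obj) (famPre f) (famPre_map_smul f), famPre_isSheaf f⟩

theorem eval_bijective (c : Chart f) :
    Function.Bijective fun s : Fam f (c.U : X.Opens) => s.1 ⟨c, le_rfl⟩ := by
  constructor
  · intro s t hst
    refine fam_ext fun i => ext_res _ _ _ fun p hp => ?_
    obtain ⟨d, hpd, hdU, hdV⟩ := exists_chart_mem (f := f) (O := (i.1.U : X.Opens))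
      (O' := (i.1.V : Y.Opens) ⊓ c.V) p hp ⟨i.1.le hp, c.le (i.2 hp)⟩
    have h1 : d ≤ i.1 := ⟨hdU, hdV.trans inf_le_left⟩
    have h2 : d ≤ c := ⟨hdU.trans i.2, hdV.trans inf_le_right⟩
    refine ⟨d, h1, hpd, ?_⟩
    rw [s.2 i ⟨d, h2.1⟩ h1, t.2 i ⟨d, h2.1⟩ h1, ← s.2 ⟨c, le_rfl⟩ ⟨d, h2.1⟩ h2, ← t.2 ⟨c, le_rfl⟩ ⟨d, h2.1⟩ h2]
    exact congrArg _ hst
  · intro h
    have hcov : ∀ i : In f (c.U : X.Opens), ∀ p ∈ (i.1.U : X.Opens),
        ∃ d, d ≤ i.1 ∧ d ≤ c ∧ p ∈ (d.U : X.Opens) := fun i p hp => by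
      obtain ⟨d, hpd, hdU, hdV⟩ := exists_chart_mem (f := f) (O := (i.1.U : X.Opens))
        (O' := (i.1.V : Y.Opens) ⊓ c.V) p hp ⟨i.1.le hp, c.le (i.2 hp)⟩
      exact ⟨d, ⟨hdU, hdV.trans inf_le_left⟩, ⟨hdU.trans i.2, hdV.trans inf_le_right⟩, hpd⟩
    choose x hx using fun i : In f (c.U : X.Opens) => glue i.1 (fun d => d ≤ c) (fun d _ q => res q h)
      (fun d d' q h' => h'.trans q) (hcov i) fun d d' _ _ q q' h' => res_res q h' h
    refine ⟨⟨x, fun i j h' => ext_res _ _ _ fun p hp => ?_⟩, ?_⟩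
    · obtain ⟨d, hd, hdc, hpd⟩ := hcov j p hp
      exact ⟨d, hd, hpd, by rw [res_res, hx i d (hd.trans h') hdc, hx j d hd hdc]⟩
    · have := hx ⟨c, le_rfl⟩ c le_rfl le_rfl
      rwa [res_self, res_self] at this

theorem nonempty_h1Sheaf : Nonempty (NLCx.H1Sheaf f (h1Mod f)) :=
  ⟨{ iso := fun U V e => AddEquiv.ofBijective
      ({ toFun := fun s => (show Fam f (U : X.Opens) from s).1 ⟨⟨U, V, e⟩, le_rfl⟩
         map_zero' := rfl
         map_add' := fun _ _ => rfl } : ((h1Mod f).val.obj (op (U : X.Opens)) : Type u) →+ NLCx.ChartH1 f U V e)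
      (eval_bijective f ⟨U, V, e⟩)
     map_smul := fun U V e a m => by
      show fres le_rfl a • (show Fam f (U : X.Opens) from m).1 ⟨⟨U, V, e⟩, le_rfl⟩ =
        a • (show Fam f (U : X.Opens) from m).1 ⟨⟨U, V, e⟩, le_rfl⟩
      rw [fres_self]
     map_res := fun {U U' V V'} e e' hU hV m =>
      ((show Fam f (U : X.Opens) from m).2 ⟨⟨U, V, e⟩, le_rfl⟩ ⟨⟨U', V', e'⟩, hU⟩ ⟨hU, hV⟩).symm }⟩

open Groth.Agent.M1 in
/-- Sections localising on the basic opens of one affine open give quasi-coherence there. -/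
theorem isQCoh_fromSpec_of_loc (M : X.Modules) {U : X.Opens} (hU : IsAffineOpen U)
    (hsurj : ∀ (r : Γ(X, U)) (t : Γ(M, X.basicOpen r)),
      ∃ (k : ℕ) (t₀ : Γ(M, U)), mres M (X.basicOpen_le r) t₀ = ores (X.basicOpen_le r) r ^ k • t)
    (hinj : ∀ (r : Γ(X, U)) (t : Γ(M, U)),
      mres M (X.basicOpen_le r) t = 0 → ∃ n : ℕ, r ^ n • t = 0) :
    Coh.IsQCoh (M.restrict hU.fromSpec) := by
  refine isQuasicoherent_of_loc _ (fun r => ?_) (fun r => ?_)
  · intro t ht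
    have e := fromSpec_image_inf_gs hU r
    have e1 := fromSpec_image_top hU
    let t' : Γ(M, U) := mres M e1.ge ((M.restrictAppIso hU.fromSpec ⊤).hom t)
    have ht' : mres M (X.basicOpen_le r) t' = 0 := by
      have h0 := congrArg (mres M e.ge) (congrArg ((M.restrictAppIso hU.fromSpec _).hom) ht)
      rw [map_zero, map_zero] at h0
      refine Eq.trans ?_ h0
      rw [mres_mres]
      exact (mres_mres M (hU.fromSpec.image_mono inf_le_left) e.ge _).symm
    obtain ⟨n, hn⟩ := hinj r t' ht'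
    refine ⟨n, ((ConcreteCategory.isIso_iff_bijective (M.restrictAppIso hU.fromSpec ⊤).hom).mp
      inferInstance).1 ?_⟩
    rw [Scheme.Modules.smul_restrictAppIso_hom_apply, map_zero, map_pow, fromSpec_appIso_inv' hU r ⊤ e1.le]
    have h0 := congrArg (mres M e1.le) hn
    rw [mres_smul, map_pow, map_zero, mres_mres, mres_id] at h0
    exact h0
  · intro s
    have e := fromSpec_image_inf_gs hU r
    have e1 := fromSpec_image_top hU
    obtain ⟨k, t₀, ht⟩ := hsurj r (mres M e.ge ((M.restrictAppIso hU.fromSpec _).hom s))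
    refine ⟨k, (M.restrictAppIso hU.fromSpec ⊤).inv (mres M e1.le t₀), ?_⟩
    refine ((ConcreteCategory.isIso_iff_bijective (M.restrictAppIso hU.fromSpec _).hom).mp
      inferInstance).1 ?_
    rw [Scheme.Modules.smul_restrictAppIso_hom_apply, map_pow,
      fromSpec_appIso_inv' hU r _ (e.le.trans (X.basicOpen_le r))]
    change mres M (hU.fromSpec.image_mono inf_le_left) (mres M e1.le t₀) = _
    have h0 := congrArg (mres M e.le) ht
    rw [mres_smul, map_pow, ores_ores, mres_mres, mres_mres, mres_id] at h0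
    rw [mres_mres]
    exact h0

theorem isQCoh_of_h1Sheaf (F : X.Modules) (h : NLCx.H1Sheaf f F) : Coh.IsQCoh F := by
  refine M1.isQCoh_of_openImmersion_cover (fun c : Chart f => c.U.2.fromSpec) (fun p => ?_) fun c => ?_
  · obtain ⟨c, hpc, -, -⟩ := exists_chart_mem (f := f) (O := ⊤) (O' := ⊤) p trivial trivial
    exact ⟨c, by rw [IsAffineOpen.range_fromSpec]; exact hpc⟩
  refine isQCoh_fromSpec_of_loc F c.U.2 (fun r t => ?_) fun r t ht => ?_
  · obtain ⟨n, x, hx⟩ := (res_loc c r).1 (h.iso (bo c r).U c.V (bo c r).le t)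
    refine ⟨n, (h.iso c.U c.V c.le).symm x, (h.iso (bo c r).U c.V (bo c r).le).injective ?_⟩
    refine (h.map_res c.le (bo c r).le (X.basicOpen_le r) le_rfl _).trans ?_
    rw [AddEquiv.apply_symm_apply]
    exact hx.trans (h.map_smul _ _ _ _ _).symm
  · obtain ⟨n, hn⟩ := (res_loc c r).2 (h.iso c.U c.V c.le t) (by
      refine (h.map_res c.le (bo c r).le (X.basicOpen_le r) le_rfl t).symm.trans ?_
      exact (congrArg (h.iso (bo c r).U c.V (bo c r).le) ht).trans (map_zero _))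
    refine ⟨n, (h.iso c.U c.V c.le).injective ?_⟩
    exact ((h.map_smul _ _ _ _ _).trans hn).trans (map_zero _).symm

end Groth.Agent.H1Sh4
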