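import Mathlib

/-!
# The first homology of the naive cotangent complex: functoriality, change of base, gluing
-/

set_option autoImplicit false
set_option linter.style.haveILetI false
universe u

open TensorProduct

namespace Groth.Agent.H1Sh4

section functoriality

variable {R R' R'' S S' S'' : Type u} [CommRing R] [CommRing R'] [CommRing R''] [CommRing S] [CommRing S'] [CommRing S'']

/-- The restriction maps compose. -/
theorem map_map [Algebra R S] [Algebra R' S'] [Algebra R'' S''] [Algebra R R'] [Algebra R R''] [Algebra R' R'']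
    [Algebra S S'] [Algebra S S''] [Algebra S' S''] [Algebra R S'] [Algebra R S''] [Algebra R' S'']
    [IsScalarTower R R' R''] [IsScalarTower S S' S''] [IsScalarTower R R' S'] [IsScalarTower R S S'] [IsScalarTower R R' S'']
    [IsScalarTower R S S''] [IsScalarTower R R'' S''] [IsScalarTower R' R'' S''] [IsScalarTower R' S' S'']
    (x : Algebra.H1Cotangent R S) :
    Algebra.H1Cotangent.map R' R'' S' S'' (Algebra.H1Cotangent.map R R' S S' x) =
      Algebra.H1Cotangent.map R R'' S S'' x := by
  rw [Algebra.H1Cotangent.map, Algebra.H1Cotangent.map, Algebra.H1Cotangent.map,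
    ← Algebra.Extension.H1Cotangent.map_comp_apply, Algebra.Extension.H1Cotangent.map_eq]

theorem map_self [Algebra R S] (x : Algebra.H1Cotangent R S) : Algebra.H1Cotangent.map R R S S x = x := by
  rw [Algebra.H1Cotangent.map, Algebra.Extension.H1Cotangent.map_eq _ (.id _), Algebra.Extension.H1Cotangent.map_id,
    LinearMap.id_apply]

attribute [local instance] Algebra.TensorProduct.rightAlgebra

/-- `H₁` does not change along a flat base change which does not change the algebra. -/
theorem map_bijective_of_flat_epi [Algebra R R'] [Algebra R S] [Algebra R' S] [IsScalarTower R R' S] [Module.Flat R R']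
    (h : Function.Bijective
      (Algebra.TensorProduct.lift (Algebra.ofId R' S) (AlgHom.id R S) fun _ _ => Commute.all _ _)) :
    Function.Bijective (Algebra.H1Cotangent.map R R' S S) := by
  let μ : R' ⊗[R] S →ₐ[R'] S :=
    Algebra.TensorProduct.lift (Algebra.ofId R' S) (AlgHom.id R S) fun _ _ => Commute.all _ _
  letI : Algebra (R' ⊗[R] S) S := μ.toRingHom.toAlgebra
  haveI : IsScalarTower R' (R' ⊗[R] S) S := IsScalarTower.of_algebraMap_eq fun r => (μ.commutes r).symm
  haveI : IsScalarTower S (R' ⊗[R] S) S := IsScalarTower.of_algebraMap_eq fun s => by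
    show s = μ ((1 : R') ⊗ₜ s)
    simp [μ]
  haveI : IsScalarTower R (R' ⊗[R] S) S := IsScalarTower.of_algebraMap_eq fun r =>
    (IsScalarTower.algebraMap_apply R R' S r).trans (μ.commutes _).symm
  let e : (R' ⊗[R] S) ≃ₐ[R'] S := AlgEquiv.ofBijective μ h
  have h1 : Function.Bijective (Algebra.H1Cotangent.map R' R' (R' ⊗[R] S) S) :=
    (Algebra.H1Cotangent.mapEquiv R' (R' ⊗[R] S) S e).bijective
  have h2 : Function.Bijective (fun x : Algebra.H1Cotangent R S => (1 : R') ⊗ₜ[R] x) := by
    let eS : S ≃ₐ[S] R' ⊗[R] S := AlgEquiv.ofBijective (Algebra.ofId S _) <| by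
      have : (Algebra.ofId S (R' ⊗[R] S) : S → R' ⊗[R] S) = e.symm := funext fun s => by
        apply e.injective
        rw [e.apply_symm_apply]
        show μ ((1 : R') ⊗ₜ s) = s
        simp [μ]
      rw [this]
      exact e.symm.bijective
    let κ : Algebra.H1Cotangent R S ≃ₗ[R] R' ⊗[R] Algebra.H1Cotangent R S :=
      ((TensorProduct.rid S (Algebra.H1Cotangent R S)).symm ≪≫ₗ
        TensorProduct.congr (LinearEquiv.refl S _) eS.toLinearEquiv).restrictScalars R ≪≫ₗ
        ((TensorProduct.congr (LinearEquiv.refl S (Algebra.H1Cotangent R S))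
          (Algebra.TensorProduct.commRight R S R').toLinearEquiv.symm).restrictScalars R ≪≫ₗ
        (AlgebraTensorModule.cancelBaseChange R S S (Algebra.H1Cotangent R S) R').restrictScalars R ≪≫ₗ
        TensorProduct.comm R (Algebra.H1Cotangent R S) R')
    have hκ : ∀ x, κ x = (1 : R') ⊗ₜ[R] x := fun x => by simp [κ, eS, Algebra.TensorProduct.one_def]
    rw [show (fun x : Algebra.H1Cotangent R S => (1 : R') ⊗ₜ[R] x) = κ from funext fun x => (hκ x).symm]
    exact κ.bijective
  have h3 := h1.comp ((Algebra.tensorH1CotangentOfFlat R S R').bijective.comp h2)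
  refine Eq.mp (congrArg Function.Bijective (funext fun x => ?_)) h3
  show Algebra.H1Cotangent.map R' R' (R' ⊗[R] S) S (Algebra.tensorH1CotangentOfFlat R S R' ((1 : R') ⊗ₜ x)) = _
  rw [Algebra.tensorH1CotangentOfFlat_tmul, one_smul, map_map]

end functoriality

/-- Gluing in a module from localisations on a cover. -/
theorem exists_glue {A M : Type u} [CommRing A] [AddCommGroup M] [Module A M] {ι : Type*} [Fintype ι] (g : ι → A)
    (hg : Ideal.span (Set.range g) = ⊤) (n : ℕ) (m : ι → M)
    (h : ∀ i j, ∃ k : ℕ, (g i * g j) ^ k • (g j ^ n • m i - g i ^ n • m j) = 0) :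
    ∃ x : M, ∀ i, ∃ k : ℕ, g i ^ k • (g i ^ n • x - m i) = 0 := by
  classical
  choose k hk using h
  let N := Finset.univ.sup fun p : ι × ι => k p.1 p.2
  have hN : ∀ i j, (g i * g j) ^ N • (g j ^ n • m i - g i ^ n • m j) = 0 := fun i j => by
    obtain ⟨d, hd⟩ := Nat.exists_eq_add_of_le (Finset.le_sup (f := fun p : ι × ι => k p.1 p.2) (Finset.mem_univ (i, j)))
    rw [show N = k i j + d from hd, pow_add, mul_comm, mul_smul, hk, smul_zero]
  have hspan : Ideal.span (Set.range fun i => g i ^ (n + N)) = ⊤ := by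
    have := Ideal.span_pow_eq_top _ hg (n + N)
    rwa [← Set.range_comp] at this
  obtain ⟨c, hc⟩ := Ideal.mem_span_range_iff_exists_fun.1 (hspan ▸ Submodule.mem_top (x := (1 : A)))
  refine ⟨∑ i, (c i * g i ^ N) • m i, fun j => ⟨N, ?_⟩⟩
  have h1 : g j ^ N • m j = ∑ i, (c i * g i ^ (n + N) * g j ^ N) • m j := by
    rw [← Finset.sum_smul, ← Finset.sum_mul, hc, one_mul]
  rw [smul_sub, h1, smul_smul, Finset.smul_sum, ← Finset.sum_sub_distrib]
  refine Finset.sum_eq_zero fun i _ => ?_
  have := hN i j
  rw [smul_sub, smul_smul, smul_smul, sub_eq_zero] at this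
  rw [smul_smul, sub_eq_zero]
  calc (g j ^ N * g j ^ n * (c i * g i ^ N)) • m i = c i • (((g i * g j) ^ N * g j ^ n) • m i) := by
        rw [smul_smul]; congr 1; rw [mul_pow]; ring
    _ = c i • (((g i * g j) ^ N * g i ^ n) • m j) := by rw [this]
    _ = (c i * g i ^ (n + N) * g j ^ N) • m j := by rw [smul_smul]; congr 1; rw [mul_pow, pow_add]; ring

end Groth.Agent.H1Sh4
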