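import Groth.Agent.Lib.H1Sh4.Chart

/-!
# The sheaf `H⁻¹` of the naive cotangent complex
-/

set_option autoImplicit false
set_option linter.style.haveILetI false
set_option backward.isDefEq.respectTransparency.types false
set_option maxHeartbeats 1000000
universe u

open CategoryTheory AlgebraicGeometry TopologicalSpace Opposite

namespace Groth.Agent.H1Sh4

variable {X Y : Scheme.{u}} {f : X ⟶ Y}

/-- Small chart pairs exist. -/
theorem exists_chart_mem {O : X.Opens} {O' : Y.Opens} (p : X) (hp : p ∈ O) (hp' : f p ∈ O') :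
    ∃ d : Chart f, p ∈ (d.U : X.Opens) ∧ (d.U : X.Opens) ≤ O ∧ (d.V : Y.Opens) ≤ O' := by
  obtain ⟨V, hV, hpV, hVO⟩ := exists_isAffineOpen_mem_and_subset hp'
  obtain ⟨U, hU, hpU, hUO⟩ := exists_isAffineOpen_mem_and_subset (U := O ⊓ f ⁻¹ᵁ V) (x := p) ⟨hp, hpV⟩
  exact ⟨⟨⟨U, hU⟩, ⟨V, hV⟩, fun x hx => (hUO hx).2⟩, hpU, fun x hx => (hUO hx).1, hVO⟩

/-- The chart `(D(g), V')` below `(D(g), c.V)` has the same module. -/
theorem res_bo_bijective (c : Chart f) (g : Γ(X, (c.U : X.Opens))) (V' : Y.affineOpens)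
    (e' : X.basicOpen g ≤ f ⁻¹ᵁ (V' : Y.Opens)) (hV : (V' : Y.Opens) ≤ c.V) :
    Function.Bijective (res (⟨le_rfl, hV⟩ : (⟨(bo c g).U, V', e'⟩ : Chart f) ≤ bo c g)) :=
  res_bijective_same _ _ hV _

/-- Sections with locally zero restrictions vanish. -/
theorem sep (c : Chart f) (x : H c)
    (h : ∀ p ∈ (c.U : X.Opens), ∃ (d : Chart f) (h : d ≤ c), p ∈ (d.U : X.Opens) ∧ res h x = 0) : x = 0 := by
  let I : Ideal Γ(X, (c.U : X.Opens)) := LinearMap.ker (LinearMap.toSpanSingleton _ _ x)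
  suffices hI : (1 : Γ(X, (c.U : X.Opens))) ∈ I by simpa [I] using hI
  rw [← Ideal.eq_top_iff_one, ← Ideal.radical_eq_top, eq_top_iff,
    ← (c.U.2.self_le_iSup_basicOpen_iff (s := {g | ∃ n : ℕ, g ^ n • x = 0})).1 ?_, Ideal.span_le]
  · rintro g ⟨n, hn⟩
    exact ⟨n, by simpa [I] using hn⟩
  intro p hp
  obtain ⟨d, hd, hpd, hx⟩ := h p hp
  obtain ⟨g, hg, hpg⟩ := c.U.2.exists_basicOpen_le ⟨p, hpd⟩ hp
  let e : Chart f := ⟨(bo c g).U, d.V, hg.trans d.le⟩
  have he : e ≤ d := ⟨hg, le_rfl⟩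
  have : res (bo_le c g) x = 0 := by
    refine (res_bo_bijective c g d.V (hg.trans d.le) hd.2).1 ?_
    rw [map_zero, res_res, ← res_res hd he, hx, map_zero]
  obtain ⟨n, hn⟩ := (res_loc c g).2 x this
  exact Opens.mem_iSup.2 ⟨⟨g, n, hn⟩, hpg⟩

theorem ext_res (c : Chart f) (x y : H c)
    (h : ∀ p ∈ (c.U : X.Opens), ∃ (d : Chart f) (h : d ≤ c), p ∈ (d.U : X.Opens) ∧ res h x = res h y) : x = y :=
  sub_eq_zero.1 <| sep c _ fun p hp => by
    obtain ⟨d, hd, hpd, e⟩ := h p hp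
    exact ⟨d, hd, hpd, by rw [map_sub, e, sub_self]⟩

/-- Gluing on a chart pair. -/
theorem glue (c : Chart f) (Q : Chart f → Prop) (s : ∀ d, d ≤ c → Q d → H d)
    (hdown : ∀ d d', Q d → d' ≤ d → Q d')
    (hcov : ∀ p ∈ (c.U : X.Opens), ∃ d, d ≤ c ∧ Q d ∧ p ∈ (d.U : X.Opens))
    (hcompat : ∀ d d' (hd : d ≤ c) (hd' : d' ≤ c) (q : Q d) (q' : Q d') (h : d' ≤ d),
      res h (s d hd q) = s d' hd' q') :
    ∃ x : H c, ∀ d (h : d ≤ c) (q : Q d), res h x = s d h q := by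
  classical
  let G : Set Γ(X, (c.U : X.Opens)) :=
    {g | ∃ (V' : Y.affineOpens) (e' : X.basicOpen g ≤ f ⁻¹ᵁ (V' : Y.Opens)),
      (V' : Y.Opens) ≤ c.V ∧ Q ⟨(bo c g).U, V', e'⟩}
  have hspan : Ideal.span G = ⊤ := by
    refine (c.U.2.self_le_iSup_basicOpen_iff).1 fun p hp => ?_
    obtain ⟨d, hd, q, hpd⟩ := hcov p hp
    obtain ⟨g, hg, hpg⟩ := c.U.2.exists_basicOpen_le ⟨p, hpd⟩ hp
    exact Opens.mem_iSup.2 ⟨⟨g, d.V, hg.trans d.le, hd.2, hdown d _ q ⟨hg, le_rfl⟩⟩, hpg⟩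
  obtain ⟨t, htG, ht⟩ := Ideal.span_eq_top_iff_finite G |>.1 hspan
  choose V' e' hV' hQ using fun g : t => htG g.2
  let E : ∀ g : t, Chart f := fun g => ⟨(bo c g.1).U, V' g, e' g⟩
  have hE : ∀ g, E g ≤ bo c g.1 := fun g => ⟨le_rfl, hV' g⟩
  have hEc : ∀ g, E g ≤ c := fun g => (hE g).trans (bo_le _ _)
  choose y hy using fun g : t =>
    (res_bo_bijective c g.1 (V' g) (e' g) (hV' g)).2 (s (E g) (hEc g) (hQ g))
  choose n₀ m₀ hm₀ using fun g : t => (res_loc c g.1).1 (y g)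
  let n := Finset.univ.sup n₀
  let m : t → H c := fun g => g.1 ^ (n - n₀ g) • m₀ g
  have hm : ∀ g, res (bo_le c g.1) (m g) = fres (X.basicOpen_le g.1) g.1 ^ n • y g := fun g => by
    simp only [m]
    rw [res_smul, hm₀, map_pow, smul_smul, ← pow_add, Nat.sub_add_cancel (Finset.le_sup (Finset.mem_univ g))]
  have hgl : ∀ g g' : t, ∃ k : ℕ, (g.1 * g'.1) ^ k • (g'.1 ^ n • m g - g.1 ^ n • m g') = 0 := by
    intro g g'
    refine (res_loc c (g.1 * g'.1)).2 _ ?_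
    have hl : bo c (g.1 * g'.1) ≤ bo c g.1 :=
      ⟨(Scheme.basicOpen_mul X g.1 g'.1).le.trans inf_le_left, le_rfl⟩
    have hr : bo c (g.1 * g'.1) ≤ bo c g'.1 :=
      ⟨(Scheme.basicOpen_mul X g.1 g'.1).le.trans inf_le_right, le_rfl⟩
    have heq : res hl (y g) = res hr (y g') := by
      refine ext_res _ _ _ fun p hp => ?_
      obtain ⟨d, hpd, hdU, hdV⟩ := exists_chart_mem (f := f) (O := X.basicOpen (g.1 * g'.1))
        (O' := (V' g : Y.Opens) ⊓ V' g') p hp ⟨e' g (hl.1 hp), e' g' (hr.1 hp)⟩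
      have h1 : d ≤ E g := ⟨hdU.trans hl.1, hdV.trans inf_le_left⟩
      have h2 : d ≤ E g' := ⟨hdU.trans hr.1, hdV.trans inf_le_right⟩
      have h0 : d ≤ bo c (g.1 * g'.1) := ⟨hdU, h1.2.trans (hV' g)⟩
      have hdc : d ≤ c := h0.trans (bo_le _ _)
      refine ⟨d, h0, hpd, ?_⟩
      rw [res_res, res_res, ← res_res (hE g) h1, ← res_res (hE g') h2, hy, hy,
        hcompat _ _ _ hdc _ (hdown _ _ (hQ g) h1) h1, hcompat _ _ _ hdc _ (hdown _ _ (hQ g) h1) h2]
    rw [map_sub, res_smul _ (g'.1 ^ n) (m g), res_smul _ (g.1 ^ n) (m g'), ← res_res (bo_le c g.1) hl, ← res_res (bo_le c g'.1) hr, hm, hm,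
      res_smul, res_smul, heq, sub_eq_zero, smul_smul, smul_smul]
    congr 1
    simp only [map_pow, fres_fres]
    ring
  obtain ⟨x, hx⟩ := exists_glue (fun g : t => g.1)
    (by rw [show Set.range (fun g : t => g.1) = (t : Set Γ(X, (c.U : X.Opens))) from Subtype.range_val]; exact ht)
    n m hgl
  have hxy : ∀ g : t, res (bo_le c g.1) x = y g := fun g => by
    obtain ⟨k, hk⟩ := hx g
    have := congrArg (res (bo_le c g.1)) hk
    rw [res_smul, map_sub, res_smul, hm, map_zero, map_pow, map_pow, ← smul_sub, smul_smul, ← pow_add] at this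
    have hu : IsUnit (fres (X.basicOpen_le g.1) g.1) := X.toRingedSpace.isUnit_res_basicOpen g.1
    exact sub_eq_zero.1 (((hu.pow (k + n)).smul_eq_zero).1 this)
  refine ⟨x, fun d hd q => ext_res _ _ _ fun p hp => ?_⟩
  have : (c.U : X.Opens) ≤ ⨆ g : (t : Set Γ(X, (c.U : X.Opens))), X.basicOpen g.1 :=
    (c.U.2.self_le_iSup_basicOpen_iff).2 ht
  obtain ⟨g, hpg⟩ := Opens.mem_iSup.1 (this (hd.1 hp))
  obtain ⟨d', hpd', hdU, hdV⟩ := exists_chart_mem (f := f) (O := (d.U : X.Opens) ⊓ X.basicOpen g.1)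
    (O' := (d.V : Y.Opens) ⊓ V' g) p ⟨hp, hpg⟩ ⟨d.le hp, e' g hpg⟩
  have h1 : d' ≤ d := ⟨hdU.trans inf_le_left, hdV.trans inf_le_left⟩
  have h2 : d' ≤ E g := ⟨hdU.trans inf_le_right, hdV.trans inf_le_right⟩
  refine ⟨d', h1, hpd', ?_⟩
  rw [res_res, hcompat _ _ _ (h1.trans hd) q (hdown _ _ q h1) h1, ← res_res (hEc g) h2,
    ← res_res (bo_le c g.1) (hE g), hxy, hy, hcompat _ _ _ (h1.trans hd) _ (hdown _ _ q h1) h2]

variable (f)

/-- The chart pairs inside an open. -/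
abbrev In (W : X.Opens) : Type u := {c : Chart f // (c.U : X.Opens) ≤ W}

/-- Compatibility of a family with restriction. -/
def Compat {W : X.Opens} (s : ∀ i : In f W, H i.1) : Prop :=
  ∀ (i j : In f W) (h : j.1 ≤ i.1), res h (s i) = s j

/-- Compatible families of elements on the chart pairs inside an open. -/
def Fam (W : X.Opens) : AddSubgroup (∀ i : In f W, H i.1) where
  carrier := {s | Compat f s}
  add_mem' {a b} ha hb i j h := (map_add (res h) _ _).trans (congrArg₂ (· + ·) (ha i j h) (hb i j h))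
  zero_mem' i j h := map_zero (res h)
  neg_mem' {a} ha i j h := (map_neg (res h) _).trans (congrArg Neg.neg (ha i j h))

variable {f}

theorem fam_ext {W : X.Opens} {s t : Fam f W} (h : ∀ i, s.1 i = t.1 i) : s = t := Subtype.ext (funext h)

noncomputable instance (W : X.Opens) : SMul Γ(X, W) (Fam f W) :=
  ⟨fun a s => ⟨fun i => fres i.2 a • s.1 i, fun i j h => by
    show res h (fres i.2 a • s.1 i) = fres j.2 a • s.1 j
    rw [res_smul, fres_fres, s.2 i j h]⟩⟩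

theorem fam_smul {W : X.Opens} (a : Γ(X, W)) (s : Fam f W) (i : In f W) :
    (a • s).1 i = fres i.2 a • s.1 i := rfl

noncomputable instance (W : X.Opens) : Module Γ(X, W) (Fam f W) where
  one_smul s := fam_ext fun i => by rw [fam_smul, map_one, one_smul]
  mul_smul a b s := fam_ext fun i => by rw [fam_smul, fam_smul, fam_smul, map_mul, mul_smul]
  smul_zero a := fam_ext fun i => by rw [fam_smul]; exact smul_zero _
  smul_add a s t := fam_ext fun i => smul_add _ _ _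
  add_smul a b s := fam_ext fun i => by rw [fam_smul, map_add]; exact add_smul _ _ _
  zero_smul s := fam_ext fun i => by rw [fam_smul, map_zero]; exact zero_smul _ _

variable (f)

/-- Restriction of families. -/
noncomputable def famRes {W W' : X.Opens} (h : W' ≤ W) : Fam f W →+ Fam f W' where
  toFun s := ⟨fun i => s.1 ⟨i.1, i.2.trans h⟩, fun i j hij => s.2 ⟨i.1, i.2.trans h⟩ ⟨j.1, j.2.trans h⟩ hij⟩
  map_zero' := rfl
  map_add' _ _ := rfl

/-- The presheaf of families. -/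
noncomputable def famPre : (Opens X)ᵒᵖ ⥤ AddCommGrpCat.{u} where
  obj W := AddCommGrpCat.of (Fam f W.unop)
  map {W W'} g := AddCommGrpCat.ofHom (famRes f g.unop.le)

end Groth.Agent.H1Sh4
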